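import Groth.Agent.Surf15.Fibre

/-!
# Configurations of rational curves with connected support and no `H¹` are trees
-/

set_option autoImplicit false
set_option linter.style.haveILetI false
set_option linter.unusedSectionVars false
set_option backward.isDefEq.respectTransparency.types false

universe u

open CategoryTheory CategoryTheory.Limits AlgebraicGeometry Opposite TopologicalSpace
open Groth.Agent.Coherent Groth.Agent.PicLib Groth.Agent.AmpleLib Groth.Agent.EulerLib
open Groth.Agent.CurveRR24 Groth.Agent.DimLib Groth.Agent.AssSch12 Groth.Agent.Surf15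

namespace Groth.Agent.Tree13

variable {X : Scheme.{u}} (k : Type u) [Field k] [X.Over (Spec (CommRingCat.of k))]
  [IsProper (X ↘ Spec (CommRingCat.of k))] [IsIntegral X]
variable (hX : topologicalKrullDim X = ((2 : ℕ) : WithBot ℕ∞))
  (hreg : ∀ x : X, IsRegularLocalRing (X.presheaf.stalk x))
variable {n : ℕ} (E : Fin n → X.IdealSheafData) (hE : ∀ i, IsCrv (E i))

variable (hEc : ∀ i, BlowUp.IsEffCartierIdeal (E i))

include k hX hreg hE hEc


/-- The class and the Euler characteristic of a sum of distinct curves. -/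
theorem prod_facts (s : Finset (Fin n)) (hs : s.Nonempty) :
    ∃ hW : BlowUp.IsEffCartierIdeal (∏ i ∈ s, E i),
      (∀ a : InvCl X, B k (clI' (∏ i ∈ s, E i) hW) a = ∑ j ∈ s, B k (clI' (E j) (hEc j)) a) ∧
      Curv2.euler k X (ClSub.quotMod (∏ i ∈ s, E i)) =
        ∑ i ∈ s, Curv2.euler k X (ClSub.quotMod (E i)) -
          ∑ i ∈ s, ∑ j ∈ s, (if i < j then B k (clI' (E i) (hEc i)) (clI' (E j) (hEc j)) else 0) := by
  classical
  induction hs using Finset.Nonempty.cons_induction with
  | singleton a =>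
    have h : ∏ i ∈ ({a} : Finset (Fin n)), E i = E a := Finset.prod_singleton _ _
    have hW : BlowUp.IsEffCartierIdeal (∏ i ∈ ({a} : Finset (Fin n)), E i) :=
      h.symm ▸ (hE a).isEffCartier k hX hreg
    refine ⟨hW, fun b => ?_, ?_⟩
    · rw [clI'_congr h hW ((hE a).isEffCartier k hX hreg), Finset.sum_singleton]
    · rw [h]; simp
  | cons a s ha hne ih =>
    obtain ⟨hW, hB, hχ⟩ := ih
    have hEa := (hE a).isEffCartier k hX hreg
    have h : ∏ i ∈ Finset.cons a s ha, E i = (∏ i ∈ s, E i) * E a := by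
      rw [Finset.prod_cons, mul_comm]
    have hW' : BlowUp.IsEffCartierIdeal (∏ i ∈ Finset.cons a s ha, E i) :=
      h.symm ▸ ModPairLib.isEffCartier_mul hW hEa
    refine ⟨hW', fun b => ?_, ?_⟩
    · rw [clI'_congr h hW' (ModPairLib.isEffCartier_mul hW hEa), clI'_mul _ _ hW hEa,
        B_mul_left k hX.le, hB, Finset.sum_cons, add_comm]
    · rw [h, euler_mul k hW hEa, hχ, hB]
      simp only [Finset.sum_cons, lt_irrefl, if_false, zero_add, Finset.sum_add_distrib]
      have key : ∑ j ∈ s, B k (clI' (E j) (hEc j)) (clI' (E a) (hEc a)) =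
          ∑ j ∈ s, (if a < j then B k (clI' (E a) (hEc a)) (clI' (E j) (hEc j)) else 0) + ∑ j ∈ s, (if j < a then B k (clI' (E j) (hEc j)) (clI' (E a) (hEc a)) else 0) := by
        rw [← Finset.sum_add_distrib]
        refine Finset.sum_congr rfl fun j hj => ?_
        rcases lt_trichotomy a j with h1 | h1 | h1
        · rw [if_pos h1, if_neg h1.asymm, add_zero, B_comm]
        · exact absurd (h1 ▸ hj) ha
        · rw [if_neg h1.asymm, if_pos h1, zero_add]
      rw [key]
      ring

variable [IsAlgClosed k]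

/-- A connected sum of distinct curves can be built up with one function at each step. -/
theorem exists_h0_le_one (hinj : Function.Injective E)
    (hconn : _root_.IsPreconnected (⋃ i, ((E i).support : Set X))) (m : ℕ) (h1 : 1 ≤ m) (hm : m ≤ n) :
    ∃ s : Finset (Fin n), s.card = m ∧
      Module.finrank k (Coh.HH X (ClSub.quotMod (∏ i ∈ s, E i)) 0) ≤ 1 := by
  classical
  induction m, h1 using Nat.le_induction with
  | base =>
    haveI := (hE ⟨0, hm⟩).1
    refine ⟨{⟨0, hm⟩}, Finset.card_singleton _, ?_⟩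
    rw [Finset.prod_singleton]
    exact (curve_facts k _ (hE ⟨0, hm⟩).2 isInvertible_structureModule).1.le
  | succ m h1 ih =>
    obtain ⟨s, hs, h0⟩ := ih (Nat.le_of_succ_le hm)
    have hne : s.Nonempty := Finset.card_pos.1 (by omega)
    -- a curve outside meeting the sum
    obtain ⟨a, ha, j, hj, x, hxa, hxj⟩ : ∃ a ∉ s, ∃ j ∈ s, ∃ x, x ∈ ((E a).support : Set X) ∧
        x ∈ ((E j).support : Set X) := by
      by_contra hcon
      push Not at hcon
      obtain ⟨j₀, hj₀⟩ := hne
      obtain ⟨a₀, ha₀⟩ : ∃ a, a ∉ s := by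
        by_contra h
        push Not at h
        rw [Finset.eq_univ_of_forall h, Finset.card_univ, Fintype.card_fin] at hs
        omega
      have hgen : ∀ i, ((E i).support : Set X).Nonempty := fun i =>
        haveI := (hE i).1
        ⟨_, (SDiv28.CartierPart.isGenericPoint_gen (E i)).mem⟩
      obtain ⟨x, hxa⟩ := hgen a₀
      obtain ⟨y, hyj⟩ := hgen j₀
      obtain ⟨z, -, hz1, hz2⟩ := (isPreconnected_closed_iff.1 hconn)
        (⋃ i ∈ s, ((E i).support : Set X)) (⋃ i ∈ sᶜ, ((E i).support : Set X))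
        (isClosed_biUnion_finset fun i _ => (E i).support.isClosed)
        (isClosed_biUnion_finset fun i _ => (E i).support.isClosed)
        (fun w hw => by
          obtain ⟨i, hi⟩ := Set.mem_iUnion.1 hw
          by_cases his : i ∈ s
          · exact Or.inl (Set.mem_biUnion his hi)
          · exact Or.inr (Set.mem_biUnion (Finset.mem_compl.2 his) hi))
        ⟨y, Set.mem_iUnion.2 ⟨j₀, hyj⟩, Set.mem_biUnion hj₀ hyj⟩
        ⟨x, Set.mem_iUnion.2 ⟨a₀, hxa⟩, Set.mem_biUnion (Finset.mem_compl.2 ha₀) hxa⟩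
      obtain ⟨j, hj, hzj⟩ := Set.mem_iUnion₂.1 hz1
      obtain ⟨a, ha, hza⟩ := Set.mem_iUnion₂.1 hz2
      exact hcon a (Finset.mem_compl.1 ha) j hj z hza hzj
    refine ⟨Finset.cons a s ha, by rw [Finset.card_cons, hs], ?_⟩
    obtain ⟨hW, hB, -⟩ := prod_facts k hX hreg E hE hEc s hne
    have hEa := (hE a).isEffCartier k hX hreg
    haveI := (hE a).1
    have hpos : 0 < B k (clI' (∏ i ∈ s, E i) hW) (clI' (E a) (hEc a)) := by
      rw [hB]
      refine Finset.sum_pos' (fun i hi => ?_) ⟨j, hj, ?_⟩
      · haveI := (hE i).1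
        refine B_clI'_nonneg k hX.le (hEc a) (hEc i) (hE i).2 fun hsub => ha ?_
        rw [support_eq_closure_gen (E i), support_eq_closure_gen (E a)] at hsub
        have hs' : SDiv28.CartierPart.gen (E a) ⤳ SDiv28.CartierPart.gen (E i) :=
          specializes_iff_mem_closure.2 (hsub (subset_closure rfl))
        have h2 := ptDim_gen k (hE i).2
        have h3 := ptDim_gen k (hE a).2
        have he := DimLib.eq_of_specializes_of_ptDim_le (X ↘ Spec (CommRingCat.of k)) hs' (by omega)
        refine hinj (a₁ := a) (a₂ := i) ?_ ▸ hi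
        rw [VarietyLib.eq_clI_of_isIntegral (E i), VarietyLib.eq_clI_of_isIntegral (E a)]
        exact congrArg AssSch12.clI he
      · exact B_pos_of_meet k hX hreg (hE j) (hE a) (fun h => ha (hinj h ▸ hj)) hxj hxa
    have hO := isInvertible_structureModule (X := X)
    have u : ∀ M : X.Modules, CohB1.tensorMod M (Coh.structureModule X) ≅ M := fun M =>
      AmpleLib.tensorComm _ _ ≪≫ unitTensorIso M
    have hI := FlatMor12.IdealModGen.isInvertible_idealMod _ hW
    have hzero := (curve_facts k (E a) (hE a).2 hI).2.2.1 (by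
      rw [deg_quotMod k hEa, B_comm]
      exact neg_lt_zero.2 hpos)
    have h := (h0_ses_twist k hW hEa hO).2
    rw [finrank_HH_congr k (u _) 0, finrank_HH_congr k (u (ClSub.quotMod (∏ i ∈ s, E i))) 0,
      finrank_HH_congr k (AmpleLib.tensorIso (Iso.refl _) (u (ClSub.idealMod (∏ i ∈ s, E i)))) 0, hzero] at h
    rw [Finset.prod_cons, mul_comm]
    omega

/-- A connected configuration of rational curves without `H¹` has intersections summing to `n - 1`. -/
theorem sum_B_eq (hn : 0 < n) (hinj : Function.Injective E)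
    (hconn : _root_.IsPreconnected (⋃ i, ((E i).support : Set X)))
    (hC : ∀ i, Subsingleton (Coh.HH X (ClSub.quotMod (E i)) 1))
    (hP : Subsingleton (Coh.HH X (ClSub.quotMod (∏ i, E i)) 1)) :
    ∑ i : Fin n, ∑ j : Fin n, (if i < j then B k (clI' (E i) (hEc i)) (clI' (E j) (hEc j)) else 0) = (n : ℤ) - 1 := by
  haveI : Nonempty (Fin n) := ⟨⟨0, hn⟩⟩
  obtain ⟨hW, -, hχ⟩ := prod_facts k hX hreg E hE hEc Finset.univ Finset.univ_nonempty
  obtain ⟨s, hs, h0⟩ := exists_h0_le_one k hX hreg E hE hEc hinj hconn n hn le_rfl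
  rw [Finset.eq_univ_of_card s (by rw [hs, Fintype.card_fin])] at h0
  have h1 : ∀ i, Curv2.euler k X (ClSub.quotMod (E i)) = 1 := fun i => by
    haveI := (hE i).1
    haveI := hC i
    rw [(curve_facts k (E i) (hE i).2 isInvertible_structureModule).2.1, Module.finrank_zero_of_subsingleton]
    simp
  have hW0 : (∏ i, E i) ≠ ⊤ := fun h => by
    obtain ⟨i⟩ : Nonempty (Fin n) := inferInstance
    refine (hE i).ne_top ?_
    refine top_le_iff.1 (h ▸ ?_)
    classical
    rw [← Finset.mul_prod_erase _ _ (Finset.mem_univ i)]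
    exact mul_le_fst _ _
  have h2 := one_le_h0_quotMod k hW0
  rw [euler_quotMod_eq k hX.le hW, Finset.sum_congr rfl (fun i _ => h1 i), Finset.sum_const, Finset.card_univ,
    Fintype.card_fin, nsmul_one] at hχ
  haveI := hP
  rw [Module.finrank_zero_of_subsingleton (R := k) (M := Coh.HH X (ClSub.quotMod (∏ i, E i)) 1)] at hχ
  omega

end Groth.Agent.Tree13
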